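import Cfsg.Agent.H209.IF.Defs
import Cfsg.Agent.H677.IF.SE

/-!
# S5719, sporadic rows (helper677): the strongly embedded kill

* `kill_two` : `IF A Γ`, `C_T(t) ≤ A` for the involutions `t ∈ A` (at least one) and two classes of involutions: `False`;
* `kill_inner` : the same for one class if the involutions of `Γ` are inner;
* `rel_small` : (E1) for an inner involution in the numerical form `|B : B ∩ A|^6 < |T : A|`.
-/

set_option autoImplicit false
set_option linter.unusedSectionVars false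

namespace Cfsg.Agent.H677.SE

open Subgroup Cfsg.Agent.H209.Fxy

variable {T : Type*} [Group T] [Finite T] {A : Subgroup T} {Γ : Subgroup (MulAut T)}

/-- **Two classes of involutions.** -/
theorem kill_two [IsSimpleGroup T] (h : IF A Γ) (hev : ∃ t ∈ A, orderOf t = 2)
    (hc : ∀ t ∈ A, orderOf t = 2 → centralizer ({t} : Set T) ≤ A) {s t : T} (hs : orderOf s = 2)
    (ht : orderOf t = 2) (hn : ¬ IsConj s t) : False :=
  hn (all_conj h.ne_top hev hc s t hs ht)

theorem center_bot [IsSimpleGroup T] (hna : ∃ a b : T, a * b ≠ b * a) : Subgroup.center T = ⊥ := by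
  rcases (inferInstance : (Subgroup.center T).Normal).eq_bot_or_eq_top with h | h
  · exact h
  · obtain ⟨a, b, hab⟩ := hna
    exact absurd (Subgroup.mem_center_iff.1 (h ▸ mem_top b : b ∈ Subgroup.center T) a) hab

theorem conj_inj [IsSimpleGroup T] (hna : ∃ a b : T, a * b ≠ b * a) :
    Function.Injective (MulAut.conj : T →* MulAut T) := by
  rw [injective_iff_map_eq_one]
  intro a ha
  have h1 : a ∈ Subgroup.center T := by
    rw [Subgroup.mem_center_iff]
    intro g
    have h2 : MulAut.conj a g = g := by rw [ha]; rfl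
    rw [MulAut.conj_apply] at h2
    have h3 : a * g = g * a := by
      rw [← mul_inv_eq_iff_eq_mul]
      exact h2
    exact h3.symm
  rw [center_bot hna, mem_bot] at h1
  exact h1

theorem ord_conjAut [IsSimpleGroup T] (hna : ∃ a b : T, a * b ≠ b * a) (a : T) :
    orderOf (MulAut.conj a) = orderOf a := orderOf_injective _ (conj_inj hna) a

/-- the centre of `T` is trivial: a `Γ`-invariant subgroup -/
theorem closure_inv [IsSimpleGroup T] (h : IF A Γ) {σ : MulAut T} (hσ : σ ∈ Γ) :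
    ∀ k ∈ closure {x : T | x ∈ A ∧ orderOf x = 2}, σ k ∈ closure {x : T | x ∈ A ∧ orderOf x = 2} := by
  have h1 : closure {x : T | x ∈ A ∧ orderOf x = 2} ≤
      (closure {x : T | x ∈ A ∧ orderOf x = 2}).comap σ.toMonoidHom := by
    conv_lhs => skip
    rw [closure_le]
    rintro x ⟨hxA, hx2⟩
    show σ x ∈ closure {x : T | x ∈ A ∧ orderOf x = 2}
    refine subset_closure ⟨(h.inv σ hσ x).2 hxA, ?_⟩
    rw [← hx2]
    exact orderOf_injective σ.toMonoidHom σ.injective x
  exact fun k hk => h1 hk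

/-- `N_T(K) ≤ A` for `1 ≠ K ≤ A` invariant under `Γ` (a proof of its own, to be independent of the engine) -/
theorem norm_le [IsSimpleGroup T] (h : IF A Γ) {K : Subgroup T} (hK : K ≤ A) (hinv : ∀ σ ∈ Γ, ∀ k ∈ K, σ k ∈ K)
    (hne : K ≠ ⊥) {x : T} (hx : ∀ k ∈ K, x * k * x⁻¹ ∈ K) : x ∈ A := by
  have hfix : ∀ {σ : MulAut T}, (∀ k ∈ K, σ k ∈ K) → ∀ k : T, σ k ∈ K → k ∈ K := by
    intro σ hσ k hk
    have h1 : K.map σ.toMonoidHom ≤ K := by
      rintro _ ⟨y, hy, rfl⟩
      exact hσ y hy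
    have h2 : K.map σ.toMonoidHom = K := by
      apply SetLike.coe_injective
      apply Set.eq_of_subset_of_ncard_le h1 _ (Set.toFinite _)
      rw [Subgroup.coe_map]
      exact (Set.ncard_image_of_injective _ σ.injective).ge
    have h3 : σ k ∈ K.map σ.toMonoidHom := by rw [h2]; exact hk
    obtain ⟨y, hy, hyk⟩ := h3
    rwa [← σ.injective hyk]
  have hAK : ∀ a ∈ A, ∀ k ∈ K, a * k * a⁻¹ ∈ K := fun a ha k hk => hinv (MulAut.conj a) ((h.conj a).2 ha) k hk
  have hAn : A ≤ normalizer (K : Set T) := by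
    intro a ha
    rw [Subgroup.mem_normalizer_iff]
    intro k
    exact ⟨hAK a ha k, fun hk => hfix (σ := MulAut.conj a) (hAK a ha) k hk⟩
  have hxn : x ∈ normalizer (K : Set T) := by
    rw [Subgroup.mem_normalizer_iff]
    intro k
    exact ⟨hx k, fun hk => hfix (σ := MulAut.conj x) hx k hk⟩
  rcases h.max (normalizer (K : Set T)) hAn (by
    intro σ hσ b hb
    rw [Subgroup.mem_normalizer_iff] at hb ⊢
    have key : ∀ k ∈ K, σ b * k * (σ b)⁻¹ ∈ K := by
      intro k hk
      have h1 : σ⁻¹ k ∈ K := hinv σ⁻¹ (inv_mem hσ) k hk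
      have h2 := hinv σ hσ _ ((hb _).1 h1)
      rw [map_mul, map_mul, map_inv] at h2
      have h3 : σ (σ⁻¹ k) = k := by
        rw [← MulAut.mul_apply, mul_inv_cancel]; rfl
      rwa [h3] at h2
    intro k
    exact ⟨key k, fun hk => hfix (σ := MulAut.conj (σ b)) key k hk⟩) with h1 | h1
  · rw [h1] at hxn
    exact hxn
  · exfalso
    have hn : K.Normal := by
      refine ⟨fun k hk g => ?_⟩
      have : g ∈ normalizer (K : Set T) := by rw [h1]; exact mem_top g
      exact (Subgroup.mem_normalizer_iff.1 this k).1 hk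
    rcases hn.eq_bot_or_eq_top with h2 | h2
    · exact hne h2
    · exact h.ne_top (top_le_iff.1 (h2 ▸ hK))

theorem fx_le_one [IsSimpleGroup T] (h : IF A Γ)
    (hc : ∀ t ∈ A, orderOf t = 2 → centralizer ({t} : Set T) ≤ A) {t : T} (htA : t ∈ A) (ht : orderOf t = 2) :
    fx A (MulAut.conj t) ≤ 1 := by
  have hnorm : ∀ g : T, (∀ k ∈ closure {x : T | x ∈ A ∧ orderOf x = 2},
      g * k * g⁻¹ ∈ closure {x : T | x ∈ A ∧ orderOf x = 2}) → g ∈ A := by
    intro g hg
    refine norm_le h ?_ (fun σ hσ => closure_inv h hσ) ?_ hg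
    · rw [closure_le]
      exact fun x hx => hx.1
    · intro h1
      have h2 : t ∈ closure {x : T | x ∈ A ∧ orderOf x = 2} := subset_closure ⟨htA, ht⟩
      rw [h1, mem_bot] at h2
      rw [h2, orderOf_one] at ht
      omega
  have h1 : fixSet A (MulAut.conj t) ⊆ {((1 : T) : T ⧸ A)} := by
    rintro c ⟨y, rfl, hy⟩
    rw [Set.mem_singleton_iff, eq_comm, QuotientGroup.eq, inv_one, one_mul]
    rw [MulAut.conj_apply] at hy
    have h2 : y⁻¹ * t * y⁻¹⁻¹ ∈ A := by
      have h3 := A.mul_mem hy htA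
      have h4 : y⁻¹ * (t * y * t⁻¹) * t = y⁻¹ * t * y⁻¹⁻¹ := by group
      rwa [h4] at h3
    exact inv_mem_iff.1 (mem_of_conj_mem hc hnorm ht htA h2)
  calc fx A (MulAut.conj t) ≤ ({((1 : T) : T ⧸ A)} : Set (T ⧸ A)).ncard := Set.ncard_le_ncard h1 (Set.toFinite _)
    _ = 1 := Set.ncard_singleton _

/-- **One class, inner involutions only.** -/
theorem kill_inner [IsSimpleGroup T] (h : IF A Γ) (hna : ∃ a b : T, a * b ≠ b * a)
    (hin : ∀ σ ∈ Γ, orderOf σ = 2 → ∃ a : T, σ = MulAut.conj a)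
    (hc : ∀ t ∈ A, orderOf t = 2 → centralizer ({t} : Set T) ≤ A) : False := by
  obtain ⟨σ, hσ, h2, h3⟩ := h.ex
  obtain ⟨a, rfl⟩ := hin σ hσ h2
  have h4 : a ∈ A := (h.conj a).1 hσ
  rw [ord_conjAut hna] at h2
  have := fx_le_one h hc h4 h2
  omega

end Cfsg.Agent.H677.SE
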