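import Cfsg.Agent.H677.IF.Kill

/-!
# S5719 (helper677): a commutative subgroup transitive on the fixed points of an involution

* `conj_mem_of_trans` : `E ≤ C_T(t)` commutative, `fx A (conj t) ≤ |E : E ∩ A|`: all `C_T(t)`-conjugates of the elements of
  `E ∩ A` lie in `A`;
* `conj_mem_of_lt` : the same if `fx A (conj t) < 2 m` and `m ≤ |E^y : E^y ∩ A|` for all `y` with `t^y ∈ A`.
-/

set_option autoImplicit false
set_option linter.unusedSectionVars false

namespace Cfsg.Agent.H677.SE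

open Subgroup Cfsg.Agent.H209.Fxy

variable {T : Type*} [Group T] [Finite T] {A : Subgroup T}

/-- the `E`-orbit of a coset -/
def orb (E A : Subgroup T) (y : T) : Set (T ⧸ A) := {c | ∃ e ∈ E, ((e * y : T) : T ⧸ A) = c}

theorem mem_fix_iff {t : T} (ht : t ∈ A) (y : T) : (y : T ⧸ A) ∈ fixSet A (MulAut.conj t) ↔ y⁻¹ * t * y ∈ A := by
  constructor
  · rintro ⟨z, hz, hzA⟩
    rw [MulAut.conj_apply] at hzA
    have h1 : z⁻¹ * t * z ∈ A := by
      have h2 := A.mul_mem hzA ht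
      have h3 : z⁻¹ * (t * z * t⁻¹) * t = z⁻¹ * t * z := by group
      rwa [h3] at h2
    rw [QuotientGroup.eq] at hz
    have h4 := A.mul_mem (A.mul_mem (A.inv_mem hz) h1) hz
    have h5 : (z⁻¹ * y)⁻¹ * (z⁻¹ * t * z) * (z⁻¹ * y) = y⁻¹ * t * y := by group
    rwa [h5] at h4
  · intro h
    refine ⟨y, rfl, ?_⟩
    rw [MulAut.conj_apply]
    have h2 := A.mul_mem h (A.inv_mem ht)
    have h3 : y⁻¹ * t * y * t⁻¹ = y⁻¹ * (t * y * t⁻¹) := by group
    rwa [h3] at h2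

theorem orb_subset {E : Subgroup T} {t : T} (ht : t ∈ A) (hE : ∀ e ∈ E, e * t = t * e) {y : T}
    (hy : y⁻¹ * t * y ∈ A) : orb E A y ⊆ fixSet A (MulAut.conj t) := by
  rintro _ ⟨e, he, rfl⟩
  rw [mem_fix_iff ht]
  have h1 : (e * y)⁻¹ * t * (e * y) = y⁻¹ * (e⁻¹ * (t * e)) * y := by group
  rw [h1, ← hE e he]
  have h2 : y⁻¹ * (e⁻¹ * (e * t)) * y = y⁻¹ * t * y := by group
  rw [h2]
  exact hy

/-- the size of the orbit -/
theorem ncard_orb (E A : Subgroup T) (y : T) :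
    (orb E A y).ncard = A.relIndex (E.map (MulAut.conj y⁻¹).toMonoidHom) := by
  set E' := E.map (MulAut.conj y⁻¹).toMonoidHom with hE'
  have h0 : A.relIndex E' = Nat.card (↥E' ⧸ A.subgroupOf E') := rfl
  rw [h0, ← Nat.card_coe_set_eq]
  have hmem : ∀ e ∈ E, y⁻¹ * e * y ∈ E' := by
    intro e he
    exact ⟨e, he, by rw [MulEquiv.coe_toMonoidHom, MulAut.conj_apply, inv_inv]⟩
  have hmem' : ∀ x ∈ E', y * x * y⁻¹ ∈ E := by
    rintro _ ⟨e, he, rfl⟩
    rw [MulEquiv.coe_toMonoidHom, MulAut.conj_apply, inv_inv]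
    have : y * (y⁻¹ * e * y) * y⁻¹ = e := by group
    rw [this]
    exact he
  refine Nat.card_congr (Equiv.ofBijective
    (fun c : orb E A y => (QuotientGroup.mk ⟨y⁻¹ * c.2.choose * y, hmem _ c.2.choose_spec.1⟩ : ↥E' ⧸ A.subgroupOf E')) ⟨?_, ?_⟩)
  · intro c d hcd
    apply Subtype.ext
    rw [← c.2.choose_spec.2, ← d.2.choose_spec.2, QuotientGroup.eq]
    have h1 := QuotientGroup.eq.1 hcd
    have h2 : (y⁻¹ * c.2.choose * y)⁻¹ * (y⁻¹ * d.2.choose * y) ∈ A := h1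
    have h3 : (y⁻¹ * c.2.choose * y)⁻¹ * (y⁻¹ * d.2.choose * y) = (c.2.choose * y)⁻¹ * (d.2.choose * y) := by group
    rwa [h3] at h2
  · intro q
    induction q using QuotientGroup.induction_on with
    | H x =>
      have hx := hmem' _ x.2
      refine ⟨⟨((y * x * y⁻¹ * y : T) : T ⧸ A), ⟨_, hx, rfl⟩⟩, ?_⟩
      rw [QuotientGroup.eq]
      set c : orb E A y := ⟨((y * x * y⁻¹ * y : T) : T ⧸ A), ⟨_, hx, rfl⟩⟩ with hc
      have h1 := c.2.choose_spec.2
      have h2 : ((c.2.choose * y : T) : T ⧸ A) = ((y * x * y⁻¹ * y : T) : T ⧸ A) := h1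
      rw [QuotientGroup.eq] at h2
      show (y⁻¹ * c.2.choose * y)⁻¹ * (x : T) ∈ A
      have h3 : (y⁻¹ * c.2.choose * y)⁻¹ * (x : T) = (c.2.choose * y)⁻¹ * (y * x * y⁻¹ * y) := by group
      rw [h3]
      exact h2

/-- **(P)**, first form -/
theorem conj_mem_of_trans {E : Subgroup T} {t : T} (ht : t ∈ A) (hE : ∀ e ∈ E, e * t = t * e)
    (hcomm : ∀ a ∈ E, ∀ b ∈ E, a * b = b * a) (hf : fx A (MulAut.conj t) ≤ (orb E A 1).ncard)
    {s : T} (hsE : s ∈ E) (hsA : s ∈ A) {c : T} (hc : c * t = t * c) : c⁻¹ * s * c ∈ A := by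
  have h1 : orb E A 1 = fixSet A (MulAut.conj t) := by
    apply Set.eq_of_subset_of_ncard_le (orb_subset ht hE (by rwa [inv_one, one_mul, mul_one])) hf (Set.toFinite _)
  have h2 : (c : T ⧸ A) ∈ fixSet A (MulAut.conj t) := by
    rw [mem_fix_iff ht]
    have h3 : c⁻¹ * t * c = t := by rw [mul_assoc, ← hc, ← mul_assoc, inv_mul_cancel, one_mul]
    rw [h3]
    exact ht
  rw [← h1] at h2
  obtain ⟨e, he, hec⟩ := h2
  rw [mul_one, QuotientGroup.eq] at hec
  have h3 := A.mul_mem (A.mul_mem (A.inv_mem hec) hsA) hec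
  have h4 : (e⁻¹ * c)⁻¹ * s * (e⁻¹ * c) = c⁻¹ * (e * s * e⁻¹) * c := by group
  rw [h4, hcomm e he s hsE, mul_inv_cancel_right] at h3
  exact h3

theorem orb_disjoint {E : Subgroup T} {y z : T} (h : (z : T ⧸ A) ∉ orb E A y) : Disjoint (orb E A y) (orb E A z) := by
  rw [Set.disjoint_left]
  rintro _ ⟨e, he, rfl⟩ ⟨f, hf, hfe⟩
  apply h
  refine ⟨f⁻¹ * e, E.mul_mem (E.inv_mem hf) he, ?_⟩
  rw [QuotientGroup.eq] at hfe ⊢
  have h1 := A.inv_mem hfe
  have h2 : ((f * z)⁻¹ * (e * y))⁻¹ = (f⁻¹ * e * y)⁻¹ * z := by group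
  rwa [h2] at h1

/-- **(P)**, second form -/
theorem conj_mem_of_lt {E : Subgroup T} {t : T} (ht : t ∈ A) (hE : ∀ e ∈ E, e * t = t * e)
    (hcomm : ∀ a ∈ E, ∀ b ∈ E, a * b = b * a) {m : ℕ}
    (hlow : ∀ y : T, y⁻¹ * t * y ∈ A → m ≤ A.relIndex (E.map (MulAut.conj y⁻¹).toMonoidHom))
    (hf : fx A (MulAut.conj t) < 2 * m) {s : T} (hsE : s ∈ E) (hsA : s ∈ A) {c : T} (hc : c * t = t * c) :
    c⁻¹ * s * c ∈ A := by
  apply conj_mem_of_trans ht hE hcomm _ hsE hsA hc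
  by_contra hcon
  push Not at hcon
  have h1 : orb E A 1 ⊆ fixSet A (MulAut.conj t) := orb_subset ht hE (by rwa [inv_one, one_mul, mul_one])
  have h2 : ∃ c ∈ fixSet A (MulAut.conj t), c ∉ orb E A 1 := by
    by_contra hcc
    push Not at hcc
    have := Set.ncard_le_ncard (show fixSet A (MulAut.conj t) ⊆ orb E A 1 from hcc) (Set.toFinite _)
    have h3 : fx A (MulAut.conj t) ≤ (orb E A 1).ncard := this
    omega
  obtain ⟨c', hc1, hc2⟩ := h2
  induction c' using QuotientGroup.induction_on with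
  | H z =>
    have hz := (mem_fix_iff ht z).1 hc1
    have h3 := orb_subset ht hE hz
    have h4 := orb_disjoint hc2
    have h5 := Set.ncard_union_eq h4 (Set.toFinite _) (Set.toFinite _)
    have h6 := Set.ncard_le_ncard (Set.union_subset h1 h3) (Set.toFinite (fixSet A (MulAut.conj t)))
    have h7 : (orb E A 1).ncard ≥ m := by
      rw [ncard_orb]
      exact hlow 1 (by rwa [inv_one, one_mul, mul_one])
    have h8 : (orb E A z).ncard ≥ m := by
      rw [ncard_orb]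
      exact hlow z hz
    have h9 : (fixSet A (MulAut.conj t)).ncard = fx A (MulAut.conj t) := rfl
    omega

end Cfsg.Agent.H677.SE
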